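import Groth.Agent.Lib.SepClosedSplit.OpenMV
import Groth.Agent.Lib.EtQCoh.ZarStrict
import Groth.Agent.H61.FieldCoh.Free
import Groth.Agent.Lib.EtJ.MayerVietoris

/-!
# Vanishing of cohomology from injectivity in degree one (all local rings strictly henselian)
-/

set_option autoImplicit false
set_option linter.style.haveILetI false
set_option backward.isDefEq.respectTransparency false

universe u

open CategoryTheory CategoryTheory.Limits CategoryTheory.Abelian AlgebraicGeometry Opposite TopologicalSpace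
open Groth.Agent.Lib.EtJ Groth.Agent.H61

noncomputable section

namespace Groth.Agent.Lib.GabberCrit50.Main

open Groth.Agent.Lib.SepClosedSplit.OpenMV

variable {Z : Scheme.{u}}

/-- A class on `free P` dies on a smaller open. -/
def K {A P : Z.Opens} (h : A ≤ P) {G : EtCoh.Ab Z} {n : ℕ} (y : Ext.{u + 1} (FieldCoh.free P.ι) G n) : Prop :=
  (Ext.mk₀ (resLE h)).comp y (zero_add n) = 0

theorem resLE_comp {A B P : Z.Opens} (h : A ≤ B) (h' : B ≤ P) : resLE h ≫ resLE h' = resLE (h.trans h') := by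
  apply (FieldCoh.ev A.ι _).injective
  rw [← Category.comp_id (resLE (h.trans h')), FieldCoh.ev_res]
  rw [← Category.comp_id (resLE h'), FieldCoh.ev_res, FieldCoh.ev_res, ← ConcreteCategory.comp_apply,
    ← Functor.map_comp, ← op_comp]
  exact congrArg (fun m => (FieldCoh.free P.ι).obj.map (Quiver.Hom.op m) _)
    ((subsingleton_hom P.ι _).elim _ _)

theorem K.of_le {A B P : Z.Opens} (h : A ≤ B) (h' : B ≤ P) {G : EtCoh.Ab Z} {n : ℕ}
    {y : Ext.{u + 1} (FieldCoh.free P.ι) G n} (hy : K h' y) : K (h.trans h') y := by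
  rw [K, ← resLE_comp h h', ← Ext.mk₀_comp_mk₀, Ext.comp_assoc_of_second_deg_zero,
    show (Ext.mk₀ (resLE h')).comp y (zero_add n) = 0 from hy, Ext.comp_zero]

theorem exists_kills_one (hZ : ∀ x : Z, EtCoh.IsStrictlyHenselianLocalRing (Z.presheaf.stalk x))
    {F : EtCoh.Ab Z} {P : Z.Opens} (y : Ext.{u + 1} (FieldCoh.free P.ι) F 1) (x : Z) (hx : x ∈ P) :
    ∃ (A : Z.Opens) (h : A ≤ P), x ∈ A ∧ K h y := by
  let S : ShortComplex (EtCoh.Ab Z) :=
    ShortComplex.mk (Injective.ι F) (cokernel.π (Injective.ι F)) (cokernel.condition _)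
  have hS : S.ShortExact := { exact := ShortComplex.exact_of_g_is_cokernel _ (cokernelIsCokernel _) }
  haveI : Injective S.X₂ := inferInstanceAs (Injective (Injective.under F))
  obtain ⟨z, rfl⟩ := Ext.covariant_sequence_exact₁ (FieldCoh.free P.ι) hS y (Ext.eq_zero_of_injective _)
    (zero_add 1)
  obtain ⟨φ, rfl⟩ := (Ext.mk₀_bijective _ _).2 z
  haveI : Epi S.g := hS.epi_g
  haveI : Sheaf.IsLocallySurjective S.g := (Sheaf.isLocallySurjective_iff_epi' _ _).2 inferInstance
  have hmem : Presheaf.imageSieve S.g.hom (FieldCoh.ev P.ι S.X₃ φ) ∈ Z.smallEtaleTopology (FieldCoh.obj P.ι) :=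
    Presheaf.imageSieve_mem Z.smallEtaleTopology S.g.hom _
  obtain ⟨V, g, ⟨s, hs⟩, v, hv⟩ := (EtSite.Basic.mem_topology_iff _).1 hmem ⟨x, hx⟩
  have hvx : V.hom v = x := by
    rw [← MorphismProperty.Over.w g]
    change P.ι.base ((𝟙 (P : Scheme.{u}) : (P : Scheme.{u}) ⟶ P).base (g.left.base v)) = x
    exact congrArg P.ι.base hv
  obtain ⟨D, hxD, ⟨t⟩⟩ := EtQCoh.ZarStrict.exists_section x (hZ x) V v hvx
  refine ⟨D ⊓ P, inf_le_right, ⟨hxD, hx⟩, ?_⟩
  let l : FieldCoh.obj (D ⊓ P).ι ⟶ V :=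
    MorphismProperty.Over.homMk (Z.homOfLE inf_le_left ≫ t.left) (by
      change (Z.homOfLE inf_le_left ≫ t.left) ≫ V.hom = 𝟙 _ ≫ (D ⊓ P).ι
      rw [Category.assoc, show t.left ≫ V.hom = D.ι from MorphismProperty.Over.w t, Category.id_comp]
      exact Z.homOfLE_ι _)
  have key : resLE (inf_le_right : D ⊓ P ≤ P) ≫ φ =
      (FieldCoh.ev (D ⊓ P).ι S.X₂).symm (S.X₂.obj.map l.op s) ≫ S.g := by
    apply (FieldCoh.ev (D ⊓ P).ι _).injective
    rw [FieldCoh.ev_res, FieldCoh.ev_comp, Equiv.apply_symm_apply, NatTrans.naturality_apply]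
    refine Eq.trans ?_ (congrArg (S.X₃.obj.map l.op) hs).symm
    rw [← ConcreteCategory.comp_apply, ← Functor.map_comp, ← op_comp]
    exact congrArg (fun m => S.X₃.obj.map (Quiver.Hom.op m) _) ((subsingleton_hom P.ι _).elim _ _)
  rw [K, ← Ext.comp_assoc_of_second_deg_zero, Ext.mk₀_comp_mk₀, key, ← Ext.mk₀_comp_mk₀,
    Ext.comp_assoc_of_second_deg_zero, hS.comp_extClass, Ext.comp_zero]

/-- Classes of positive degree die Zariski locally. -/
theorem exists_kills (hZ : ∀ x : Z, EtCoh.IsStrictlyHenselianLocalRing (Z.presheaf.stalk x)) (n : ℕ) :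
    ∀ {F : EtCoh.Ab Z} {P : Z.Opens} (y : Ext.{u + 1} (FieldCoh.free P.ι) F (n + 1)) (x : Z), x ∈ P →
      ∃ (A : Z.Opens) (h : A ≤ P), x ∈ A ∧ K h y := by
  induction n with
  | zero => exact fun y x hx => exists_kills_one hZ y x hx
  | succ n ih =>
    intro F P y x hx
    let S : ShortComplex (EtCoh.Ab Z) :=
      ShortComplex.mk (Injective.ι F) (cokernel.π (Injective.ι F)) (cokernel.condition _)
    have hS : S.ShortExact := { exact := ShortComplex.exact_of_g_is_cokernel _ (cokernelIsCokernel _) }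
    haveI : Injective S.X₂ := inferInstanceAs (Injective (Injective.under F))
    obtain ⟨z, rfl⟩ := Ext.covariant_sequence_exact₁ (FieldCoh.free P.ι) hS y (Ext.eq_zero_of_injective _)
      (n₀ := n + 1) rfl
    obtain ⟨A, h, hxA, hk⟩ := ih z x hx
    refine ⟨A, h, hxA, ?_⟩
    rw [K, ← Ext.comp_assoc (Ext.mk₀ (resLE h)) z hS.extClass (zero_add _) rfl (by omega),
      show (Ext.mk₀ (resLE h)).comp z (zero_add (n + 1)) = 0 from hk, Ext.zero_comp]

/-- Two opens with vanishing cohomology in the previous degree on the intersection. -/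
theorem eq_zero_of_cover (A B P C : Z.Opens) (hA : A ≤ P) (hB : B ≤ P) (hP : P ≤ A ⊔ B) (hCA : C ≤ A)
    (hCB : C ≤ B) (hC : A ⊓ B ≤ C) {G : EtCoh.Ab Z} {n : ℕ} (y : Ext.{u + 1} (FieldCoh.free P.ι) G (n + 1))
    (hC0 : Subsingleton (Ext.{u + 1} (FieldCoh.free C.ι) G n)) (ha : K hA y) (hb : K hB y) : y = 0 := by
  have hS := shortExact A B P C hA hB hP hCA hCB hC
  let S := MVAlg.complex (resLE hCA) (resLE hCB) (resLE hA) (resLE hB) (res_res A B P C hA hB hCA hCB)
  have hl : (Ext.mk₀ S.g).comp y (zero_add (n + 1)) = 0 := by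
    have hg : S.g = biprod.fst ≫ resLE hA + biprod.snd ≫ resLE hB := by
      apply biprod.hom_ext' <;> simp [S]
    rw [hg, Ext.mk₀_add, Ext.add_comp, ← Ext.mk₀_comp_mk₀, ← Ext.mk₀_comp_mk₀,
      Ext.comp_assoc_of_second_deg_zero, Ext.comp_assoc_of_second_deg_zero,
      show (Ext.mk₀ (resLE hA)).comp y (zero_add _) = 0 from ha,
      show (Ext.mk₀ (resLE hB)).comp y (zero_add _) = 0 from hb, Ext.comp_zero, Ext.comp_zero, add_zero]
  obtain ⟨w, hw⟩ := Ext.contravariant_sequence_exact₃ hS G y hl (n₀ := n) (add_comm 1 n)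
  rw [Subsingleton.elim w 0, Ext.comp_zero] at hw
  exact hw.symm

section affine

variable [IsAffine Z]

/-- The ideal argument. -/
theorem eq_zero (hZ : ∀ x : Z, EtCoh.IsStrictlyHenselianLocalRing (Z.presheaf.stalk x))
    {G : EtCoh.Ab Z} {n : ℕ} (c : Γ(Z, ⊤)) (y : Ext.{u + 1} (FieldCoh.free (Z.basicOpen c).ι) G (n + 1))
    (step : ∀ (f g : Γ(Z, ⊤)) (hA : Z.basicOpen (f * (f + g)) ≤ Z.basicOpen (f + g))
      (hB : Z.basicOpen (g * (f + g)) ≤ Z.basicOpen (f + g))
      (w : Ext.{u + 1} (FieldCoh.free (Z.basicOpen (f + g)).ι) G (n + 1)), K hA w → K hB w → w = 0) :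
    y = 0 := by
  have le : ∀ a : Γ(Z, ⊤), Z.basicOpen (a * c) ≤ Z.basicOpen c := fun a => by
    rw [Scheme.basicOpen_mul]; exact inf_le_right
  let I : Ideal Γ(Z, ⊤) :=
    { carrier := {a | K (le a) y}
      zero_mem' := by
        change K (le 0) y
        haveI : IsEmpty (Z.basicOpen (0 * c : Γ(Z, ⊤)) : Scheme.{u}) := by
          rw [zero_mul, Scheme.basicOpen_zero]
          exact ⟨fun x => x.2⟩
        rw [K, (isZero_free (Z.basicOpen (0 * c : Γ(Z, ⊤))).ι).eq_of_src (resLE _) 0,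
          Ext.mk₀_zero, Ext.zero_comp]
      add_mem' := fun {a b} ha hb => by
        have hA : Z.basicOpen (a * c * (a * c + b * c)) ≤ Z.basicOpen (a * c + b * c) := by
          rw [Scheme.basicOpen_mul]; exact inf_le_right
        have hB : Z.basicOpen (b * c * (a * c + b * c)) ≤ Z.basicOpen (a * c + b * c) := by
          rw [Scheme.basicOpen_mul]; exact inf_le_right
        have heq : Z.basicOpen (a * c + b * c) = Z.basicOpen ((a + b) * c) := by rw [add_mul]
        have hA' : Z.basicOpen (a * c * (a * c + b * c)) ≤ Z.basicOpen (a * c) := by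
          rw [Scheme.basicOpen_mul]; exact inf_le_left
        have hB' : Z.basicOpen (b * c * (a * c + b * c)) ≤ Z.basicOpen (b * c) := by
          rw [Scheme.basicOpen_mul]; exact inf_le_left
        have hP : Z.basicOpen (a * c + b * c) ≤ Z.basicOpen c := heq.le.trans (le _)
        have h0 := step (a * c) (b * c) hA hB ((Ext.mk₀ (resLE hP)).comp y (zero_add _))
          (by
            have h := K.of_le hA' (le a) ha
            rw [K, ← Ext.comp_assoc_of_second_deg_zero, Ext.mk₀_comp_mk₀, resLE_comp]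
            exact h)
          (by
            have h := K.of_le hB' (le b) hb
            rw [K, ← Ext.comp_assoc_of_second_deg_zero, Ext.mk₀_comp_mk₀, resLE_comp]
            exact h)
        exact K.of_le heq.ge hP h0
      smul_mem' := fun r a ha => by
        refine K.of_le (B := Z.basicOpen (a * c)) ?_ (le a) ha
        rw [smul_eq_mul, mul_assoc, Scheme.basicOpen_mul]
        exact inf_le_right }
  have hpt : ∀ x ∈ Z.basicOpen c, ∃ a ∈ I, x ∈ Z.basicOpen a := fun x hx => by
    obtain ⟨A, h, hxA, hk⟩ := exists_kills hZ n y x hx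
    obtain ⟨a, haA, hxa⟩ := (isAffineOpen_top Z).exists_basicOpen_le (V := A) ⟨x, hxA⟩ (Opens.mem_top x)
    refine ⟨a, ?_, hxa⟩
    exact K.of_le (B := A) ((Scheme.basicOpen_mul _ a c).le.trans (inf_le_left.trans haA)) h hk
  obtain ⟨k, hk⟩ : c ∈ I.radical := by
    rw [Ideal.radical_eq_sInf]
    refine Ideal.mem_sInf.2 fun {m} hm => ?_
    haveI := hm.2
    by_contra hcm
    let x := (isAffineOpen_top Z).fromSpec ⟨m, inferInstance⟩
    have hx : ∀ a, a ∉ m ↔ x ∈ Z.basicOpen a := fun a =>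
      (SetLike.ext_iff.1 ((isAffineOpen_top Z).fromSpec_preimage_basicOpen a) ⟨m, inferInstance⟩).symm
    obtain ⟨a, ha, hxa⟩ := hpt x ((hx c).1 hcm)
    exact (hx a).2 hxa (hm.1 ha)
  have hle : Z.basicOpen c ≤ Z.basicOpen (c ^ k * c) := fun x hx => by
    rw [Z.mem_basicOpen_top] at hx ⊢
    rw [map_mul, map_pow]
    exact (hx.pow k).mul hx
  have h : K (le_refl (Z.basicOpen c)) y := K.of_le hle (le (c ^ k)) hk
  have hid : resLE (le_refl (Z.basicOpen c)) = 𝟙 _ := by
    apply (FieldCoh.ev (Z.basicOpen c).ι _).injective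
    rw [← Category.comp_id (resLE (le_refl (Z.basicOpen c))), FieldCoh.ev_res]
    rw [show le' (le_refl (Z.basicOpen c)) = 𝟙 _ from (subsingleton_hom (Z.basicOpen c).ι _).elim _ _, op_id,
      CategoryTheory.Functor.map_id]
    rfl
  rw [K, hid, Ext.mk₀_id_comp] at h
  exact h

/-- Vanishing in all positive degrees on basic opens. -/
theorem subsingleton (hZ : ∀ x : Z, EtCoh.IsStrictlyHenselianLocalRing (Z.presheaf.stalk x)) {G : EtCoh.Ab Z}
    (h1 : ∀ (f g : Γ(Z, ⊤)) (hA : Z.basicOpen (f * (f + g)) ≤ Z.basicOpen (f + g))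
      (hB : Z.basicOpen (g * (f + g)) ≤ Z.basicOpen (f + g))
      (w : Ext.{u + 1} (FieldCoh.free (Z.basicOpen (f + g)).ι) G 1), K hA w → K hB w → w = 0) (n : ℕ) :
    ∀ c : Γ(Z, ⊤), Subsingleton (Ext.{u + 1} (FieldCoh.free (Z.basicOpen c).ι) G (n + 1)) := by
  induction n with
  | zero => exact fun c => subsingleton_of_forall_eq 0 fun y => eq_zero hZ c y h1
  | succ n ih =>
    refine fun c => subsingleton_of_forall_eq 0 fun y => eq_zero hZ c y fun f g hA hB w ha hb => ?_
    refine eq_zero_of_cover _ _ _ (Z.basicOpen ((f * (f + g)) * (g * (f + g)))) hA hB ?_ ?_ ?_ ?_ w (ih _) ha hb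
    · intro x hx
      have hx' := (Z.mem_basicOpen_top (f + g) x).1 hx
      rw [map_add] at hx'
      rw [Scheme.basicOpen_mul, Scheme.basicOpen_mul, Opens.mem_sup]
      rcases IsLocalRing.isUnit_or_isUnit_of_isUnit_add hx' with h | h
      · exact Or.inl ⟨(Z.mem_basicOpen_top f x).2 h, hx⟩
      · exact Or.inr ⟨(Z.mem_basicOpen_top g x).2 h, hx⟩
    · rw [Scheme.basicOpen_mul _ (f * (f + g))]; exact inf_le_left
    · rw [Scheme.basicOpen_mul _ (f * (f + g))]; exact inf_le_right
    · rw [Scheme.basicOpen_mul _ (f * (f + g))]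

end affine

section compare

variable {U W : Scheme.{u}} (j : U ⟶ Z) [IsOpenImmersion j]

/-- The two free sheaves agree in their evaluation. -/
theorem ev_eq {G : EtCoh.Ab Z} (a : FieldCoh.free j ⟶ G) (θ : FieldCoh.obj j ⟶ MayerVietoris.obj j) :
    FieldCoh.ev j G a = G.obj.map θ.op (MayerVietoris.ev j G a) := by
  let V := MayerVietoris.obj j
  let hV := PullSec.bcIsTerminal j j (𝟙 U) (Category.id_comp j)
  let s := MayerVietoris.ev j G a
  rw [FieldCoh.ev_apply]
  refine (congrArg (FieldCoh.restrTop j G) (MayerVietoris.pullSec_ev j a).symm).trans ?_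
  let h0 := hV.from (EtCoh.top U)
  have h : (EtCoh.pullPushAdj j).unit.app G ≫
      (EtCoh.push j).map ((Basic.pullIsoRestr j).hom.app G) = (Basic.restrPushAdj j).unit.app G :=
    Adjunction.unit_leftAdjointUniq_hom_app (EtCoh.pullPushAdj j) (Basic.restrPushAdj j) G
  have h1 := ConcreteCategory.congr_hom (congrArg (fun m => m.hom.app (op V)) h) s
  have h2 := ConcreteCategory.congr_hom
    (((Basic.pullIsoRestr j).hom.app G).hom.naturality h0.op)
    (((EtCoh.pullPushAdj j).unit.app G).hom.app (op V) s)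
  refine h2.trans ((congrArg (((EtShriek.restrAlong j).obj G).obj.map h0.op) h1).trans ?_)
  have h3 : ((Basic.restrPushAdj j).unit.app G).hom.app (op V) =
      G.obj.map ((Basic.compEtaleAdj j).counit.app V).op := by
    simp [Basic.restrPushAdj]
  rw [h3]
  refine (ConcreteCategory.congr_hom (G.obj.map_comp ((Basic.compEtaleAdj j).counit.app V).op
    ((EtShriek.compEtale j).map h0).op) s).symm.trans ?_
  refine congrArg (fun m => G.obj.map m s) (Quiver.Hom.unop_inj ?_)
  refine MorphismProperty.Over.Hom.ext ((cancel_mono j).1 ?_)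
  exact (MorphismProperty.Over.w ((EtShriek.compEtale j).map h0 ≫ (Basic.compEtaleAdj j).counit.app V)).trans
    (MorphismProperty.Over.w θ).symm

variable (jW : W ⟶ Z) [IsOpenImmersion jW] (k : W ⟶ U) (hk : k ≫ j = jW)
  [PreservesFiniteLimits (EtCoh.pull k)]

/-- The canonical comparison. -/
def θ : FieldCoh.obj j ⟶ MayerVietoris.obj j :=
  MorphismProperty.Over.homMk (𝟙 U) rfl

theorem res_eq (k' : FieldCoh.obj jW ⟶ FieldCoh.obj j) :
    FieldCoh.res j jW k' = MayerVietoris.res j jW k hk := by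
  apply (FieldCoh.ev jW _).injective
  have h1 := FieldCoh.ev_res j jW k' (𝟙 (FieldCoh.free j))
  rw [Category.comp_id] at h1
  rw [h1, ev_eq j (𝟙 _) (θ j), ev_eq jW _ (θ jW)]
  have h2 := MayerVietoris.ev_res j jW k hk (𝟙 (MayerVietoris.free j))
  rw [Category.comp_id] at h2
  refine Eq.trans ?_ (congrArg ((FieldCoh.free j).obj.map (θ jW).op) h2).symm
  refine (ConcreteCategory.congr_hom ((FieldCoh.free j).obj.map_comp (θ j).op k'.op) _).symm.trans ?_
  refine Eq.trans ?_ (ConcreteCategory.congr_hom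
    ((FieldCoh.free j).obj.map_comp (MayerVietoris.incl j jW k hk).op (θ jW).op) _)
  refine congrArg (fun m => (FieldCoh.free j).obj.map m _) (Quiver.Hom.unop_inj ?_)
  refine MorphismProperty.Over.Hom.ext ((cancel_mono j).1 ?_)
  exact (MorphismProperty.Over.w (k' ≫ θ j)).trans
    (MorphismProperty.Over.w (θ jW ≫ MayerVietoris.incl j jW k hk)).symm

end compare

end Groth.Agent.Lib.GabberCrit50.Main
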